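import Cfsg.Agent.H426.FC.Defs

/-!
# S3618, part B: connectivity (helper273)

Section 2 of `tools/plans/S3618_B_helper426.md`.
-/

set_option autoImplicit false

open Equiv Equiv.Perm MulAction
open scoped Pointwise

namespace Cfsg.Agent.H273.FC

open Cfsg.Agent.H426.FC

universe u

variable {Ω : Type u} [Fintype Ω] [DecidableEq Ω]

omit [Fintype Ω] [DecidableEq Ω] in
theorem inv_self' (h : Perm Ω) (a : Ω) : h⁻¹ (h a) = a := h.symm_apply_apply a

omit [Fintype Ω] [DecidableEq Ω] in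
theorem self_inv' (h : Perm Ω) (a : Ω) : h (h⁻¹ a) = a := h.apply_symm_apply a

/-- members fixing `a` -/
def Fx (XX : Set (Perm Ω)) (a : Ω) : Set (Perm Ω) := {x | x ∈ XX ∧ x a = a}

theorem ncard_Fx {H : Subgroup (Perm Ω)} {XX : Set (Perm Ω)} {s : ℕ} (hX : Fam H XX s) {h : Perm Ω} (hh : h ∈ H)
    (a : Ω) : (Fx XX (h a)).ncard = (Fx XX a).ncard := by
  have h1 : Fx XX (h a) = (MulAut.conj h) '' Fx XX a := by
    ext x
    constructor
    · rintro ⟨hx, hxa⟩
      refine ⟨h⁻¹ * x * h, ⟨?_, ?_⟩, ?_⟩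
      · have := hX.conj h⁻¹ (H.inv_mem hh) x hx
        rwa [inv_inv] at this
      · rw [Perm.mul_apply, Perm.mul_apply, hxa, inv_self']
      · rw [MulAut.conj_apply]; group
    · rintro ⟨y, ⟨hy, hya⟩, rfl⟩
      rw [MulAut.conj_apply]
      exact ⟨hX.conj h hh y hy, by rw [Perm.mul_apply, Perm.mul_apply, inv_self', hya]⟩
  rw [h1, Set.ncard_image_of_injective _ (MulAut.conj h).injective]

theorem conj_Fx {H : Subgroup (Perm Ω)} {XX : Set (Perm Ω)} {s : ℕ} (hX : Fam H XX s) {h : Perm Ω} (hh : h ∈ H)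
    {a b : Ω} (hab : Fx XX a = Fx XX b) : Fx XX (h a) = Fx XX (h b) := by
  have key : ∀ a b : Ω, Fx XX a = Fx XX b → Fx XX (h a) ⊆ Fx XX (h b) := by
    intro a b hab x hx
    have h1 : h⁻¹ * x * h ∈ Fx XX a := by
      refine ⟨?_, ?_⟩
      · have := hX.conj h⁻¹ (H.inv_mem hh) x hx.1
        rwa [inv_inv] at this
      · rw [Perm.mul_apply, Perm.mul_apply, hx.2, inv_self']
    rw [hab] at h1
    refine ⟨hx.1, ?_⟩
    have h2 := h1.2
    rw [Perm.mul_apply, Perm.mul_apply, Perm.inv_eq_iff_eq] at h2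
    exact h2
  exact (key a b hab).antisymm (key b a hab.symm)

/-- CONN (i) (section 2 (i) of the plan) -/
theorem exists_fix_move (H : Subgroup (Perm Ω)) (hprim : IsPreprimitive H Ω) (XX : Set (Perm Ω)) (s : ℕ)
    (hX : Fam H XX s) (a b : Ω) (hab : a ≠ b) : ∃ x ∈ XX, x a = a ∧ x b ≠ b := by
  by_contra hcon
  push Not at hcon
  have htr : IsPretransitive H Ω := hprim.toIsPretransitive
  have hcard : ∀ c d : Ω, (Fx XX c).ncard = (Fx XX d).ncard := by
    intro c d
    obtain ⟨h, hh⟩ := MulAction.exists_smul_eq H d c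
    have h1 : (h : Perm Ω) d = c := hh
    rw [← h1]
    exact ncard_Fx hX h.2 d
  have hsub : ∀ c d : Ω, Fx XX c ⊆ Fx XX d → Fx XX c = Fx XX d := fun c d h =>
    Set.eq_of_subset_of_ncard_le h (hcard d c).le (Set.toFinite _)
  have hab' : Fx XX a = Fx XX b := hsub a b fun x hx => ⟨hx.1, hcon x hx.1 hx.2⟩
  let B : Set Ω := {c | Fx XX c = Fx XX a}
  have hB : IsBlock H B := by
    rw [isBlock_iff_smul_eq_of_mem]
    intro g c hc hgc
    have h1 : Fx XX c = Fx XX a := hc
    have h2 : Fx XX ((g : Perm Ω) c) = Fx XX a := hgc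
    have h3 : ∀ d ∈ B, g • d ∈ B := by
      intro d hd
      have h4 : Fx XX d = Fx XX a := hd
      show Fx XX ((g : Perm Ω) d) = Fx XX a
      rw [← h2]
      exact conj_Fx hX g.2 (h4.trans h1.symm)
    apply Set.eq_of_subset_of_ncard_le
    · rintro _ ⟨d, hd, rfl⟩
      exact h3 d hd
    · exact (Set.ncard_image_of_injective B (MulAction.injective g)).ge
    · exact Set.toFinite _
  rcases hprim.isTrivialBlock_of_isBlock hB with h1 | h1
  · exact hab (h1 rfl hab'.symm)
  · -- all members fixing `a` fix everything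
    obtain ⟨x, hx⟩ := hX.nonempty
    have h2 : ∃ c, x c = c := by
      by_contra hne
      push Not at hne
      have h3 : x.support = Finset.univ := by
        rw [Finset.eq_univ_iff_forall]
        intro c
        exact Perm.mem_support.2 (hne c)
      have h4 := hX.card x hx
      rw [h3, Finset.card_univ] at h4
      exact absurd hX.lt (by omega)
    obtain ⟨c, hc⟩ := h2
    have h3 : ∀ d : Ω, x d = d := by
      intro d
      have h4 : d ∈ B := by rw [h1]; trivial
      have h5 : c ∈ B := by rw [h1]; trivial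
      have h6 : Fx XX c = Fx XX d := h5.trans (Eq.symm h4)
      have h7 : x ∈ Fx XX c := ⟨hx, hc⟩
      rw [h6] at h7
      exact h7.2
    have h4 : x.support = ∅ := by
      rw [Finset.eq_empty_iff_forall_notMem]
      intro d hd
      exact Perm.mem_support.1 hd (h3 d)
    have h5 := hX.card x hx
    rw [h4, Finset.card_empty] at h5
    have := hX.two_le
    omega

omit [Fintype Ω] [DecidableEq Ω] in
theorem Rel.symm {XX : Set (Perm Ω)} {a b c : Ω} (h : Rel XX a b c) : Rel XX a c b := by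
  obtain ⟨x, h1, h2, h3, h4⟩ := h
  exact ⟨x, h1, h2, h4, h3⟩

omit [Fintype Ω] [DecidableEq Ω] in
theorem rtg_symm {XX : Set (Perm Ω)} {a b c : Ω} (h : Relation.ReflTransGen (Rel XX a) b c) :
    Relation.ReflTransGen (Rel XX a) c b := by
  induction h with
  | refl => exact Relation.ReflTransGen.refl
  | tail _ h2 ih => exact Relation.ReflTransGen.head (Rel.symm h2) ih

/-- the class of `b` -/
def cls (XX : Set (Perm Ω)) (a b : Ω) : Set Ω := {y | Relation.ReflTransGen (Rel XX a) b y}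

theorem lift_rel {H : Subgroup (Perm Ω)} {XX : Set (Perm Ω)} {s : ℕ} (hX : Fam H XX s) {h : Perm Ω} (hh : h ∈ H)
    {a b c : Ω} (hbc : Relation.ReflTransGen (Rel XX a) b c) :
    Relation.ReflTransGen (Rel XX (h a)) (h b) (h c) := by
  refine Relation.ReflTransGen.lift h ?_ _ _ hbc
  rintro y z ⟨x, h1, h2, h3, h4⟩
  refine ⟨h * x * h⁻¹, hX.conj h hh x h1, ?_, ?_, ?_⟩
  · rw [Perm.mul_apply, Perm.mul_apply, inv_self', h2]
  · rw [Perm.mul_apply, Perm.mul_apply, inv_self']
    exact fun h5 => h3 (h.injective h5)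
  · rw [Perm.mul_apply, Perm.mul_apply, inv_self']
    exact fun h5 => h4 (h.injective h5)

/-- CONN (ii) (section 2 (ii) of the plan) -/
theorem connected (H : Subgroup (Perm Ω)) (hprim : IsPreprimitive H Ω) (XX : Set (Perm Ω)) (s : ℕ)
    (hX : Fam H XX s) (a b b' : Ω) (hb : b ≠ a) (hb' : b' ≠ a) : Relation.ReflTransGen (Rel XX a) b b' := by
  classical
  by_contra hcon
  have htr : IsPretransitive H Ω := hprim.toIsPretransitive
  -- a class of maximal size
  obtain ⟨⟨a₁, b₁⟩, hm1, hmax⟩ := Finset.exists_max_image (Finset.univ.filter fun p : Ω × Ω => p.2 ≠ p.1)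
    (fun p => (cls XX p.1 p.2).ncard) ⟨(a, b), Finset.mem_filter.2 ⟨Finset.mem_univ _, hb⟩⟩
  have hb1 : b₁ ≠ a₁ := (Finset.mem_filter.1 hm1).2
  have hmax' : ∀ c d : Ω, d ≠ c → (cls XX c d).ncard ≤ (cls XX a₁ b₁).ncard := fun c d hdc =>
    hmax (c, d) (Finset.mem_filter.2 ⟨Finset.mem_univ _, hdc⟩)
  set Y := cls XX a₁ b₁ with hY
  have hbY : b₁ ∈ Y := Relation.ReflTransGen.refl
  have haY : a₁ ∉ Y := by
    intro h
    have h1 : Relation.ReflTransGen (Rel XX a₁) b₁ a₁ := h
    rcases Relation.ReflTransGen.cases_tail h1 with h2 | ⟨z, _, x, _, h3, _, h4⟩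
    · exact hb1 h2.symm
    · exact h4 h3
  -- a second class
  obtain ⟨b₂, hb2, hb2Y⟩ : ∃ b₂, b₂ ≠ a₁ ∧ b₂ ∉ Y := by
    obtain ⟨h, hh⟩ := MulAction.exists_smul_eq H a₁ a
    have h1 : (h : Perm Ω) a₁ = a := hh
    by_contra hne
    push Not at hne
    have e1 : (h : Perm Ω) ((h : Perm Ω)⁻¹ b) = b := self_inv' _ _
    have e2 : (h : Perm Ω) ((h : Perm Ω)⁻¹ b') = b' := self_inv' _ _
    have h2 : (h : Perm Ω)⁻¹ b ∈ Y := by
      apply hne
      rintro h3
      rw [h3, h1] at e1
      exact hb e1.symm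
    have h3 : (h : Perm Ω)⁻¹ b' ∈ Y := by
      apply hne
      rintro h3
      rw [h3, h1] at e2
      exact hb' e2.symm
    have h4 : Relation.ReflTransGen (Rel XX a₁) ((h : Perm Ω)⁻¹ b) ((h : Perm Ω)⁻¹ b') :=
      (rtg_symm h2).trans h3
    have h5 := lift_rel hX h.2 h4
    rw [h1, e1, e2] at h5
    exact hcon h5
  -- `Y` is a class for all `c` outside `Y`
  have hall : ∀ c, c ∉ Y → cls XX c b₁ = Y := by
    intro c hc
    have h1 : Y ⊆ cls XX c b₁ := by
      intro y hy
      have h2 : Relation.ReflTransGen (Rel XX a₁) b₁ y := hy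
      show Relation.ReflTransGen (Rel XX c) b₁ y
      induction h2 with
      | refl => exact Relation.ReflTransGen.refl
      | @tail y z h3 h4 ih =>
        refine (ih h3).tail ?_
        obtain ⟨x, x1, x2, x3, x4⟩ := h4
        refine ⟨x, x1, ?_, x3, x4⟩
        by_contra h5
        exact hc (Relation.ReflTransGen.tail h3 ⟨x, x1, x2, x3, h5⟩)
    exact (Set.eq_of_subset_of_ncard_le h1 (hmax' c b₁ (fun h => hc (h ▸ hbY))) (Set.toFinite _)).symm
  have hsupp : ∀ x ∈ XX, ∀ y ∈ Y, x y ≠ y → ∀ c, c ∉ Y → x c = c → ∀ z, x z ≠ z → z ∈ Y := by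
    intro x hx y hy hxy c hc hxc z hz
    have h1 := hall c hc
    rw [← h1] at hy ⊢
    exact Relation.ReflTransGen.tail hy ⟨x, hx, hxc, hxy, hz⟩
  -- the complement of `Y` is large
  have hbig : s + 1 ≤ Yᶜ.ncard := by
    obtain ⟨x, hx, hxa, hxb⟩ := exists_fix_move H hprim XX s hX a₁ b₂ hb2.symm
    have h1 : insert a₁ (x.support : Set Ω) ⊆ Yᶜ := by
      rw [Set.insert_subset_iff]
      refine ⟨haY, ?_⟩
      intro z hz hzY
      have h2 : x z ≠ z := Perm.mem_support.1 hz
      exact hb2Y (Relation.ReflTransGen.tail hzY ⟨x, hx, hxa, h2, hxb⟩)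
    have h2 := Set.ncard_le_ncard h1 (Set.toFinite _)
    rw [Set.ncard_insert_of_notMem, Set.ncard_coe_finset, hX.card x hx] at h2
    · exact h2
    · intro h3
      exact Perm.mem_support.1 h3 hxa
  have hin : ∀ x ∈ XX, ∀ y ∈ Y, x y ≠ y → ∀ z, x z ≠ z → z ∈ Y := by
    intro x hx y hy hxy
    by_contra hne
    have h1 : ∀ c, c ∉ Y → x c ≠ c := by
      intro c hc hxc
      exact hne (hsupp x hx y hy hxy c hc hxc)
    have h2 : Yᶜ ⊆ (x.support : Set Ω) := fun c hc => Perm.mem_support.2 (h1 c hc)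
    have h3 := Set.ncard_le_ncard h2 (Set.toFinite _)
    rw [Set.ncard_coe_finset, hX.card x hx] at h3
    omega
  have hpres : ∀ x ∈ XX, ∀ y ∈ Y, x y ∈ Y := by
    intro x hx y hy
    by_cases h1 : x y = y
    · rw [h1]; exact hy
    · exact hin x hx y hy h1 _ (fun h2 => h1 (x.injective h2))
  -- the normal subgroup generated by the members
  let T : Set H := {h | (h : Perm Ω) ∈ XX}
  have hN : Subgroup.normalClosure T ≤ stabilizer H Y := by
    rw [Subgroup.normalClosure, Subgroup.closure_le]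
    intro g hg
    rw [Group.mem_conjugatesOfSet_iff] at hg
    obtain ⟨t, ht, hgt⟩ := hg
    obtain ⟨c, hc⟩ := isConj_iff.1 hgt
    have h1 : (g : Perm Ω) ∈ XX := by
      rw [← hc]
      exact hX.conj c c.2 t ht
    rw [SetLike.mem_coe, mem_stabilizer_iff]
    apply Set.eq_of_subset_of_ncard_le
    · rintro _ ⟨d, hd, rfl⟩
      exact hpres g h1 d hd
    · exact (Set.ncard_image_of_injective Y (MulAction.injective g)).ge
    · exact Set.toFinite _
  have hq : IsPretransitive (Subgroup.normalClosure T) Ω := by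
    have hqp : IsQuasiPreprimitive H Ω := inferInstance
    apply hqp.isPretransitive_of_normal
    intro h1
    obtain ⟨x, hx⟩ := hX.nonempty
    have h2 : x = 1 := by
      ext c
      have h3 : c ∈ fixedPoints (Subgroup.normalClosure T) Ω := by rw [h1]; trivial
      have h4 : (⟨x, hX.mem x hx⟩ : H) ∈ Subgroup.normalClosure T := Subgroup.subset_normalClosure hx
      exact h3 ⟨_, h4⟩
    have h3 := hX.card x hx
    rw [h2, Perm.support_one, Finset.card_empty] at h3
    have := hX.two_le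
    omega
  obtain ⟨g, hg⟩ := MulAction.exists_smul_eq (Subgroup.normalClosure T) b₁ a₁
  have h1 := mem_stabilizer_iff.1 (hN g.2)
  apply haY
  rw [← h1, ← hg]
  exact Set.smul_mem_smul_set hbY

end Cfsg.Agent.H273.FC
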